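import Mathlib

/-!
# The Jacobson completion of a finite algebra over a Noetherian local ring

For `A` Noetherian local and `C` a finite `A`-algebra, `C ⊗_A Â` is the completion of the semilocal
ring `C` at its Jacobson radical.
-/

universe u

open scoped TensorProduct
open IsLocalRing

namespace Groth.Agent.FormalFibre

variable (A C : Type u) [CommRing A] [IsLocalRing A] [CommRing C] [Algebra A C]

local notation "m" => maximalIdeal A
local notation "Ah" => AdicCompletion (maximalIdeal A) A
local notation "J" => Ideal.jacobson (⊥ : Ideal C)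

/-- `(m C)^n`. -/
abbrev lvl (n : ℕ) : Ideal C := ((maximalIdeal A) ^ n).map (algebraMap A C)

/-- Evaluation of `C ⊗ Â` at level `n`. -/
noncomputable def evalLevel (n : ℕ) : C ⊗[A] Ah →ₐ[A] C ⧸ lvl A C n :=
  Algebra.TensorProduct.lift (Ideal.Quotient.mkₐ A (lvl A C n))
    ((Ideal.quotientMapₐ (lvl A C n) (Algebra.ofId A C) (Ideal.le_comap_map)).comp
      (AdicCompletion.evalₐ m n))
    (fun _ _ => Commute.all _ _)

theorem evalLevel_tmul (n : ℕ) (c : C) (z : Ah) (a : A)
    (ha : AdicCompletion.evalₐ m n z = Ideal.Quotient.mk _ a) :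
    evalLevel A C n (c ⊗ₜ[A] z) = Ideal.Quotient.mk _ (c * algebraMap A C a) := by
  rw [evalLevel, Algebra.TensorProduct.lift_tmul, AlgHom.comp_apply, ha, map_mul]
  rfl

theorem factor_evalₐ {R : Type u} [CommRing R] (I : Ideal R) {k n : ℕ} (hkn : k ≤ n)
    (z : AdicCompletion I R) :
    Ideal.Quotient.factor (Ideal.pow_le_pow_right hkn) (AdicCompletion.evalₐ I n z) =
      AdicCompletion.evalₐ I k z := by
  induction z using AdicCompletion.induction_on with
  | h s =>
    rw [show (AdicCompletion.mk I R) s = AdicCompletion.mkₐ I s from rfl,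
      AdicCompletion.evalₐ_mkₐ, AdicCompletion.evalₐ_mkₐ, Ideal.Quotient.factor_mk, Ideal.Quotient.eq]
    have := SModEq.sub_mem.mp (s.property hkn).symm
    rwa [smul_eq_mul, Ideal.mul_top] at this

theorem lvl_le_jacobson [Algebra.IsIntegral A C] : (m).map (algebraMap A C) ≤ J := by
  refine le_sInf fun M hM => ?_
  have hMm : M.IsMaximal := hM.2
  rw [Ideal.map_le_iff_le_comap]
  exact (eq_maximalIdeal (Ideal.isMaximal_comap_of_isIntegral_of_isMaximal M)).ge

theorem exists_jacobson_pow_le [IsNoetherianRing A] [Module.Finite A C] :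
    ∃ e, 0 < e ∧ J ^ e ≤ lvl A C 1 := by
  have : IsNoetherianRing C := IsNoetherianRing.of_finite A C
  have hrad : J ≤ (lvl A C 1).radical := by
    rw [Ideal.radical_eq_sInf]
    refine le_sInf fun P ⟨hP, hPp⟩ => ?_
    have hmax : (P.comap (algebraMap A C)).IsMaximal := by
      have hle : m ≤ P.comap (algebraMap A C) := by
        rw [← Ideal.map_le_iff_le_comap]; simpa [lvl] using hP
      exact (maximalIdeal.isMaximal A).eq_of_le (Ideal.IsPrime.comap _).ne_top hle ▸ maximalIdeal.isMaximal A
    exact (sInf_le ⟨bot_le, Ideal.isMaximal_of_isIntegral_of_isMaximal_comap P hmax⟩ : J ≤ P)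
  obtain ⟨e, he⟩ := Ideal.exists_pow_le_of_le_radical_of_fg hrad (IsNoetherian.noetherian _)
  exact ⟨e + 1, Nat.succ_pos e, (Ideal.pow_le_pow_right (Nat.le_succ e)).trans he⟩

theorem factor_evalLevel {k n : ℕ} (hkn : k ≤ n) (x : C ⊗[A] Ah) :
    Ideal.Quotient.factor (Ideal.map_mono (Ideal.pow_le_pow_right hkn))
      (evalLevel A C n x) = evalLevel A C k x := by
  induction x using TensorProduct.induction_on with
  | zero => simp
  | tmul c z =>
    obtain ⟨a, ha⟩ := Ideal.Quotient.mk_surjective (AdicCompletion.evalₐ m n z)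
    have hk := factor_evalₐ m hkn z
    rw [← ha, Ideal.Quotient.factor_mk] at hk
    rw [evalLevel_tmul A C n c z a ha.symm, evalLevel_tmul A C k c z a hk.symm,
      Ideal.Quotient.factor_mk]
  | add x y hx hy => simp only [map_add, hx, hy]

theorem smul_top_eq_lvl (n : ℕ) :
    (m ^ n • ⊤ : Submodule A C) = (lvl A C n).restrictScalars A := Ideal.smul_top_eq_map _

theorem evalLevel_eq (n : ℕ) (x : C ⊗[A] Ah) (c : C)
    (h : (AdicCompletion.ofTensorProduct m C (TensorProduct.comm A C Ah x)).val n =
      Submodule.Quotient.mk c) : evalLevel A C n x = Ideal.Quotient.mk _ c := by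
  induction x using TensorProduct.induction_on generalizing c with
  | zero =>
    rw [map_zero, map_zero, AdicCompletion.val_zero_apply] at h
    rw [map_zero, eq_comm, Ideal.Quotient.eq_zero_iff_mem]
    have := (Submodule.Quotient.mk_eq_zero _).mp h.symm
    rwa [smul_top_eq_lvl] at this
  | tmul c' z =>
    obtain ⟨a, ha⟩ := Ideal.Quotient.mk_surjective (AdicCompletion.evalₐ m n z)
    rw [evalLevel_tmul A C n c' z a ha.symm, Ideal.Quotient.eq]
    rw [TensorProduct.comm_tmul, AdicCompletion.ofTensorProduct_tmul, AdicCompletion.smul_eval,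
      AdicCompletion.val_smul_eq_evalₐ_smul, ← ha] at h
    change Submodule.Quotient.mk (a • c') = Submodule.Quotient.mk c at h
    rw [Submodule.Quotient.eq, smul_top_eq_lvl] at h
    rw [mul_comm, ← Algebra.smul_def]
    exact h
  | add x y hx hy =>
    obtain ⟨cx, hcx⟩ := Submodule.Quotient.mk_surjective _
      ((AdicCompletion.ofTensorProduct m C (TensorProduct.comm A C Ah x)).val n)
    obtain ⟨cy, hcy⟩ := Submodule.Quotient.mk_surjective _
      ((AdicCompletion.ofTensorProduct m C (TensorProduct.comm A C Ah y)).val n)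
    rw [map_add, map_add, AdicCompletion.val_add_apply, ← hcx, ← hcy, ← Submodule.Quotient.mk_add,
      Submodule.Quotient.eq, smul_top_eq_lvl] at h
    rw [map_add, hx cx hcx.symm, hy cy hcy.symm, ← map_add, Ideal.Quotient.eq]
    exact h

/-- Evaluation modulo `J^n`. -/
noncomputable def jLevel [Algebra.IsIntegral A C] (n : ℕ) : C ⊗[A] Ah →+* C ⧸ J ^ n :=
  (Ideal.Quotient.factor (show lvl A C n ≤ J ^ n by
    rw [lvl, Ideal.map_pow]; exact Ideal.pow_right_mono (lvl_le_jacobson A C) n)).comp
    (evalLevel A C n).toRingHom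

theorem jLevel_eq [Algebra.IsIntegral A C] (n : ℕ) (x : C ⊗[A] Ah) (c : C)
    (h : evalLevel A C n x = Ideal.Quotient.mk _ c) : jLevel A C n x = Ideal.Quotient.mk _ c := by
  rw [jLevel, RingHom.comp_apply]
  change Ideal.Quotient.factor _ (evalLevel A C n x) = _
  rw [h, Ideal.Quotient.factor_mk]

theorem jLevel_compat [Algebra.IsIntegral A C] {k n : ℕ} (hkn : k ≤ n) :
    (Ideal.Quotient.factorPow J hkn).comp (jLevel A C n) = jLevel A C k := RingHom.ext fun x => by
  obtain ⟨c, hc⟩ := Ideal.Quotient.mk_surjective (evalLevel A C n x)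
  have h1 := factor_evalLevel A C hkn x
  rw [← hc, Ideal.Quotient.factor_mk] at h1
  rw [RingHom.comp_apply, jLevel_eq A C n x c hc.symm, jLevel_eq A C k x c h1.symm,
    Ideal.Quotient.factorPow, Ideal.Quotient.factor_mk]

/-- The comparison map. -/
noncomputable def toJacobson [Algebra.IsIntegral A C] : C ⊗[A] Ah →+* AdicCompletion J C :=
  AdicCompletion.liftRingHom J (jLevel A C) (jLevel_compat A C)

theorem evalₐ_toJacobson [Algebra.IsIntegral A C] (n : ℕ) (x : C ⊗[A] Ah) :
    AdicCompletion.evalₐ J n (toJacobson A C x) = jLevel A C n x := by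
  exact AdicCompletion.evalₐ_liftRingHom J (jLevel A C) (jLevel_compat A C) n x

/-- **`C ⊗ Â` is the Jacobson completion of `C`.** -/
theorem toJacobson_bijective [IsNoetherianRing A] [Module.Finite A C] :
    Function.Bijective (toJacobson A C) := by
  obtain ⟨e, he0, he⟩ := exists_jacobson_pow_le A C
  have hle : ∀ n, J ^ (e * n) ≤ lvl A C n := fun n => by
    rw [pow_mul, lvl, Ideal.map_pow]
    refine Ideal.pow_right_mono ?_ n
    simpa [lvl] using he
  have hn : ∀ n, n ≤ e * n := fun n => Nat.le_mul_of_pos_left n he0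
  let E := (TensorProduct.comm A C Ah).toEquiv.trans
    (AdicCompletion.ofTensorProductEquivOfFiniteNoetherian m C).toEquiv
  have hE : ∀ x, E x = AdicCompletion.ofTensorProduct m C (TensorProduct.comm A C Ah x) :=
    fun x => rfl
  constructor
  · rw [injective_iff_map_eq_zero]
    intro x hx
    have h0 : E x = 0 := by
      refine AdicCompletion.ext fun n => ?_
      obtain ⟨c, hc⟩ := Submodule.Quotient.mk_surjective _ ((E x).val (e * n))
      have h1 := jLevel_eq A C (e * n) x c (evalLevel_eq A C _ x c (hE x ▸ hc.symm))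
      have h2 : jLevel A C (e * n) x = 0 := by
        rw [← evalₐ_toJacobson, hx, map_zero]
      rw [h2, eq_comm, Ideal.Quotient.eq_zero_iff_mem] at h1
      rw [← AdicCompletion.transitionMap_comp_eval_apply m C (hn n) (E x), ← hc,
        AdicCompletion.val_zero_apply]
      change Submodule.Quotient.mk c = 0
      rw [Submodule.Quotient.mk_eq_zero, smul_top_eq_lvl]
      exact hle n h1
    exact E.injective (h0.trans (by rw [hE]; simp))
  · intro y
    choose c hc using fun n => Ideal.Quotient.mk_surjective (AdicCompletion.evalₐ J n y)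
    have hcc : ∀ {k n : ℕ}, k ≤ n → c n - c k ∈ J ^ k := fun {k n} hkn => by
      have h1 := factor_evalₐ J hkn y
      rw [← hc n, ← hc k, Ideal.Quotient.factor_mk] at h1
      exact Ideal.Quotient.eq.mp h1
    let w : AdicCompletion m C := AdicCompletion.mk m C ⟨fun n => c (e * n), fun {k n} hkn => by
      rw [SModEq.sub_mem, smul_top_eq_lvl]
      have := hle k (hcc (Nat.mul_le_mul_left e hkn))
      change c (e * k) - c (e * n) ∈ lvl A C k
      rw [← neg_sub]; exact neg_mem this⟩
    refine ⟨E.symm w, AdicCompletion.ext_evalₐ fun n => ?_⟩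
    have h1 : evalLevel A C n (E.symm w) = Ideal.Quotient.mk _ (c (e * n)) :=
      evalLevel_eq A C n _ _ (by rw [← hE, E.apply_symm_apply]; rfl)
    rw [evalₐ_toJacobson, jLevel_eq A C n _ _ h1, ← hc n,
      Ideal.Quotient.eq]
    exact hcc (hn n)

/-- Reducedness of the Jacobson completion is reducedness of `C ⊗ Â`. -/
theorem isReduced_completion_iff [IsNoetherianRing A] [Module.Finite A C] :
    IsReduced (AdicCompletion J C) ↔ IsReduced (C ⊗[A] Ah) := by
  let e := RingEquiv.ofBijective (toJacobson A C) (toJacobson_bijective A C)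
  exact ⟨fun h => isReduced_of_injective e.toRingHom e.injective,
    fun h => isReduced_of_injective e.symm.toRingHom e.symm.injective⟩

end Groth.Agent.FormalFibre
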