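import Groth.Agent.Catenary.EssFT
import Mathlib

/-!
# Completions of flat local homomorphisms
-/

universe u

namespace Groth.Agent.FormalFibre

open IsLocalRing
open scoped TensorProduct

/-- The completion of a flat local homomorphism is faithfully flat. -/
theorem exists_faithfullyFlat_cplMap {C D : Type u} [CommRing C] [CommRing D] [IsLocalRing C]
    [IsLocalRing D] [IsNoetherianRing C] [IsNoetherianRing D] [Algebra C D]
    [IsLocalHom (algebraMap C D)] [Module.Flat C D] :
    ∃ alg : Algebra (EGA4.Cpl C) (EGA4.Cpl D),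
      letI := alg
      IsScalarTower C (EGA4.Cpl C) (EGA4.Cpl D) ∧
        Module.FaithfullyFlat (EGA4.Cpl C) (EGA4.Cpl D) := by
  let f := algebraMap C D
  have := CohenStruct.isNoetherianRing_completion C
  have := CohenStruct.isNoetherianRing_completion D
  have : Module.Flat C (EGA4.Cpl D) := Module.Flat.trans C D _
  let _ : Algebra (EGA4.Cpl C) (EGA4.Cpl D) := (Catenary.cplMap f).toAlgebra
  have : IsScalarTower C (EGA4.Cpl C) (EGA4.Cpl D) := IsScalarTower.of_algebraMap_eq fun x => by
    change algebraMap C (EGA4.Cpl D) x = Catenary.cplMap f (algebraMap C (EGA4.Cpl C) x)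
    rw [Catenary.cplMap_algebraMap, IsScalarTower.algebraMap_apply C D (EGA4.Cpl D)]
  have hle : ((maximalIdeal C).map (algebraMap C (EGA4.Cpl C))).map (algebraMap (EGA4.Cpl C) (EGA4.Cpl D)) ≤
      maximalIdeal (EGA4.Cpl D) := by
    rw [Ideal.map_map, ← IsScalarTower.algebraMap_eq, IsScalarTower.algebraMap_eq C D (EGA4.Cpl D),
      ← Ideal.map_map, AdicCompletion.maximalIdeal_eq_map]
    exact Ideal.map_mono ((local_hom_TFAE f).out 0 2 |>.mp ‹_›)
  have hmax : ((maximalIdeal C).map (algebraMap C (EGA4.Cpl C))).IsMaximal := by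
    rw [← AdicCompletion.maximalIdeal_eq_map]
    exact maximalIdeal.isMaximal _
  let _ := Ideal.Quotient.field ((maximalIdeal C).map (algebraMap C (EGA4.Cpl C)))
  have : Module.Flat ((EGA4.Cpl C) ⧸ (maximalIdeal C).map (algebraMap C (EGA4.Cpl C)))
      (TensorProduct (EGA4.Cpl C) ((EGA4.Cpl C) ⧸ (maximalIdeal C).map (algebraMap C (EGA4.Cpl C))) (EGA4.Cpl D)) :=
    Module.Flat.of_free
  have : Module.Flat (EGA4.Cpl C) (EGA4.Cpl D) := FlatDescent.flat_of_flat_fibre (S := EGA4.Cpl C) (S' := EGA4.Cpl D) (M := EGA4.Cpl D)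
    (maximalIdeal C) (hle.trans (maximalIdeal_le_jacobson ⊥))
  have : IsLocalHom (algebraMap (EGA4.Cpl C) (EGA4.Cpl D)) := by
    refine ((local_hom_TFAE _).out 0 2).mpr ?_
    rw [AdicCompletion.maximalIdeal_eq_map (R := C)]
    exact hle
  have : Module.FaithfullyFlat (EGA4.Cpl C) (EGA4.Cpl D) := Module.FaithfullyFlat.of_flat_of_isLocalHom
  exact ⟨_, inferInstance, inferInstance⟩

/-- Reducedness descends along a faithfully flat algebra after base change. -/
theorem isReduced_tensor_of_faithfullyFlat {A B C K : Type u} [CommRing A] [CommRing B] [CommRing C]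
    [CommRing K] [Algebra A B] [Algebra B C] [Algebra A C] [IsScalarTower A B C] [Algebra A K]
    [Module.FaithfullyFlat B C] [IsReduced (K ⊗[A] C)] : IsReduced (K ⊗[A] B) := by
  have hinj : Function.Injective
      (Algebra.TensorProduct.map (AlgHom.id A K) (IsScalarTower.toAlgHom A B C)) := by
    let e := (TensorProduct.AlgebraTensorModule.cancelBaseChange A B B C K).toEquiv
    have he : ∀ x : K ⊗[A] B, Algebra.TensorProduct.map (AlgHom.id A K) (IsScalarTower.toAlgHom A B C) x =
        TensorProduct.comm A C K (e ((1 : C) ⊗ₜ[B] TensorProduct.comm A K B x)) := by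
      intro x
      induction x using TensorProduct.induction_on with
      | zero => simp [e]
      | tmul k b => simp [e, Algebra.smul_def]
      | add x y hx hy => simp [e, TensorProduct.tmul_add] at hx hy ⊢; rw [hx, hy]
    intro x y hxy
    rw [he, he] at hxy
    exact (TensorProduct.comm A K B).injective (Module.FaithfullyFlat.tensorProduct_mk_injective
      (A := B) (B := C) (B ⊗[A] K) (e.injective ((TensorProduct.comm A C K).injective hxy)))
  exact isReduced_of_injective _ hinj

end Groth.Agent.FormalFibre
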